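import Cfsg.Agent.Lib.ThreeTrans.RootGroup.Kernel

/-!
Owner: helper27. The group of a class is the class with the identity; the 2-core of the group of two opposite
classes is central and that group is perfect.
-/

set_option autoImplicit false
set_option linter.unusedSectionVars false
set_option linter.style.haveILetI false

namespace CfsgLib.ThreeTrans.RootGroup

open Subgroup Cfsg
open CfsgLib.ThreeTrans.OddPair

universe u

variable {G : Type u} [Group G] [Finite G] {D : Set G}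

local notation "E[" v "]" => sameCommutingClass D v

variable (hG : Deg D)
include hG

theorem exists_outside (hZ : center G = ⊥) {d : G} (hd : d ∈ D) : ∃ y ∈ D, ¬ Commute d y := by
  by_contra hno
  push Not at hno
  have hle : closure D ≤ centralizer ({d} : Set G) := (closure_le _).2 fun y hy =>
    mem_centralizer_singleton_iff.2 (hno y hy).eq.symm
  have hc : d ∈ center G := mem_center_iff.2 fun g =>
    mem_centralizer_singleton_iff.1 (hle (hG.hD.1.generates.symm ▸ mem_top g))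
  rw [hZ, mem_bot] at hc
  have h2 := hG.hD.1.orderOf_eq d hd
  rw [hc, orderOf_one] at h2
  omega

/-- **The group of a class.** -/
theorem mem_or_one (h50 : CommonNbr.{u}) (hO : pCore 2 G = ⊥) (hZ : center G = ⊥) {d p : G} (hd : d ∈ D)
    (hp : p ∈ closure E[d]) : p = 1 ∨ p ∈ E[d] := by
  obtain ⟨y, hy, hdy⟩ := exists_outside hG hZ hd
  have hyd : ¬ Commute y d := fun e => hdy e.symm
  have triv : ∀ w ∈ closure E[d], Moves w y → w = 1 := fun w hw hm => by
    have h1 := mem_pCore_of_moves hG hd hw fun z hz =>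
      moves_all hG h50 CfsgLib.AschCrit.mainProved hd hw hy hdy hm hz
    rwa [hO, mem_bot] at h1
  by_cases hm : Moves p y
  · exact Or.inl (triv p hp hm)
  right
  have hp2 := grp_sq hG hd hp
  have hi : p⁻¹ = p := inv_eq_of_mul_eq_one_right hp2
  obtain ⟨h, -⟩ := hG.rk_pair hd hy hdy
  obtain ⟨hEd, hEy⟩ := hG.pair_mem hd hy hdy
  set X := Xp D d y with hX
  have hdC := hEd d (self_mem_class hd)
  have hyC := hEy y (self_mem_class hy)
  have hyX := h.mem y hyC
  have hpX : p ∈ X := (closure_le X).2 (fun b hb => h.mem b (hEd b hb)) hp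
  obtain ⟨h2, h1⟩ := h.block_img hG.hD hdC
    (fun e he => ⟨hEd e he, class_commute hd he (self_mem_class hd)⟩) hp hpX
  have hne : (QuotientGroup.mk' (pCore 2 X)) ⟨p, hpX⟩ ≠ 1 := fun e =>
    hm ((h.moves_iff hG.hD hdC hyC hyd hpX h2 h1).2 e)
  obtain ⟨hmD, hmp, hmy⟩ := mid_spec hG.hD hy hp2 fun hc => hm (by rw [Moves, hi]; exact hc)
  set m := mid y (p * y * p) with hmdef
  have hmX : m ∈ X := mul_mem (pow_mem (mul_mem hyX (mul_mem (mul_mem hpX hyX) hpX)) _) hyX
  have hmC : m ∈ clsIn X y := mem_clsIn_of_not_commute hG.hD hyC hyX hy hmD hmX fun hc => hm (by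
    have h3 : Commute (p * m * m) y := hmy.mul_left hc.symm
    rw [mul_assoc, sq_one hG.hD hmD, mul_one] at h3
    rw [Moves, h3.eq, mul_inv_cancel_right])
  have hmd : Commute m d := (h.commute_iff hG.hD hmC hdC).1
    (h.trans _ _ _ (h.img_sq hG.hD hmC) h2 hne (h.img_sq hG.hD hdC)
      ((show Commute (⟨m, h.mem m hmC⟩ : X) ⟨p, hpX⟩ from Subtype.ext hmp.eq).map _) h1)
  have hmE : m ∈ E[d] := hG.mem_class_of_commute hd hy hdy hmD (by rw [← hG.Xp_eq hd hy hdy]; exact hmX) hmd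
  have h3 := triv (p * m) (mul_mem hp (subset_closure hmE)) (by
    rw [Moves, hmy.eq, mul_inv_cancel_right])
  rwa [eq_inv_of_mul_eq_one_left h3, OddPair.inv_eq hG.hD hmD]

/-- The group of a class as a set. -/
theorem group_eq (h50 : CommonNbr.{u}) (hO : pCore 2 G = ⊥) (hZ : center G = ⊥) {d : G} (hd : d ∈ D) :
    (sameCommutingSubgroup D d : Set G) = E[d] ∪ {1} := by
  ext p
  refine ⟨fun hp => (mem_or_one hG h50 hO hZ hd hp).symm, ?_⟩
  rintro (hp | rfl)
  · exact subset_closure hp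
  · exact one_mem _

/-- An element of the group of a class in the 2-core of the group of two opposite classes is trivial. -/
theorem eq_one_of_map {c y : G} (h50 : CommonNbr.{u}) (hO : pCore 2 G = ⊥) (hZ : center G = ⊥) (hc : c ∈ D)
    (hy : y ∈ D) (hcy : ¬ Commute c y) {p : Xp D c y} (hp : (p : G) ∈ closure E[c])
    (h1 : QuotientGroup.mk' (pCore 2 (Xp D c y)) p = 1) : (p : G) = 1 := by
  obtain ⟨h, -⟩ := hG.rk_pair hc hy hcy
  refine (mem_or_one hG h50 hO hZ hc hp).resolve_right fun hpE => ?_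
  exact h.ne (p : G) ((hG.pair_mem hc hy hcy).1 _ hpE) h1

/-- An element of the 2-core commutes with the class. -/
theorem core_commute_class (h50 : CommonNbr.{u}) (hO : pCore 2 G = ⊥) (hZ : center G = ⊥) {c y : G} (hc : c ∈ D)
    (hy : y ∈ D) (hcy : ¬ Commute c y) {r : G} (hr : r ∈ core2 (Xp D c y)) {e : G} (he : e ∈ E[c]) :
    Commute r e := by
  obtain ⟨h, -⟩ := hG.rk_pair hc hy hcy
  obtain ⟨⟨r, hrX⟩, hr', rfl⟩ := hr
  show Commute r e
  set π := QuotientGroup.mk' (pCore 2 (Xp D c y))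
  have heC := (hG.pair_mem hc hy hcy).1 e he
  have hreC := h.conj e heC r hrX
  have h1 : π ⟨r, hrX⟩ = 1 := (QuotientGroup.eq_one_iff _).2 hr'
  have h2 : π ⟨r * e * r⁻¹, h.mem _ hreC⟩ = π ⟨e, h.mem e heC⟩ := by
    rw [show (⟨r * e * r⁻¹, h.mem _ hreC⟩ : Xp D c y) = ⟨r, hrX⟩ * ⟨e, h.mem e heC⟩ * (⟨r, hrX⟩ : Xp D c y)⁻¹
      from rfl, map_mul, map_mul, map_inv, h1, inv_one, one_mul, mul_one]
  have h3 : Commute (r * e * r⁻¹) e := h.ker _ hreC e heC h2
  have hreD := h.memD _ hreC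
  have hre : r * e * r⁻¹ ∈ E[c] := hG.mem_class_of_commute hc hy hcy hreD
    (by rw [← hG.Xp_eq hc hy hcy]; exact h.mem _ hreC) ((class_iff he hreD).1 h3)
  have h4 := eq_one_of_map hG h50 hO hZ hc hy hcy
    (p := ⟨r * e * r⁻¹, h.mem _ hreC⟩ * ⟨e, h.mem e heC⟩) (mul_mem (subset_closure hre) (subset_closure he))
    (by rw [map_mul, h2, h.img_sq hG.hD heC])
  have h5 : r * e * r⁻¹ = e := by
    rw [eq_inv_of_mul_eq_one_left (show r * e * r⁻¹ * e = 1 from h4), OddPair.inv_eq hG.hD he.1]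
  show r * e = e * r
  rw [← mul_inv_eq_iff_eq_mul, h5]

theorem Xp_comm (c y : G) : Xp D c y = Xp D y c := by rw [Xp, Xp, Set.union_comm]

/-- **The 2-core is central.** -/
theorem core_central (h50 : CommonNbr.{u}) (hO : pCore 2 G = ⊥) (hZ : center G = ⊥) {c y : G} (hc : c ∈ D)
    (hy : y ∈ D) (hcy : ¬ Commute c y) {r g : G} (hr : r ∈ core2 (Xp D c y)) (hg : g ∈ Xp D c y) :
    Commute r g := by
  have hle : Xp D c y ≤ centralizer ({r} : Set G) := (closure_le _).2 (by
    rintro e (he | he)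
    · exact mem_centralizer_singleton_iff.2 (core_commute_class hG h50 hO hZ hc hy hcy hr he).eq.symm
    · exact mem_centralizer_singleton_iff.2 (core_commute_class hG h50 hO hZ hy hc (fun e' => hcy e'.symm)
        (by rw [← Xp_comm hG c y]; exact hr) he).eq.symm)
  exact (mem_centralizer_singleton_iff.1 (hle hg)).symm

/-- **Perfect.** -/
theorem hom_eq_one {c y : G} (hc : c ∈ D) (hy : y ∈ D) (hcy : ¬ Commute c y) {A : Type*} [CommGroup A]
    (f : Xp D c y →* A) (g : Xp D c y) : f g = 1 := by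
  obtain ⟨h, -⟩ := hG.rk_pair hc hy hcy
  obtain ⟨hEc, hEy⟩ := hG.pair_mem hc hy hcy
  have hyX := h.mem y (hEy y (self_mem_class hy))
  have key : ∀ a (ha : a ∈ clsIn (Xp D c y) y), f ⟨a, h.mem a ha⟩ = f ⟨y, hyX⟩ := by
    intro a ha
    obtain ⟨g, hg, rfl⟩ := id ha
    rw [show (⟨g * y * g⁻¹, h.mem _ ha⟩ : Xp D c y) = ⟨g, hg⟩ * ⟨y, hyX⟩ * (⟨g, hg⟩ : Xp D c y)⁻¹ from rfl,
      map_mul, map_mul, map_inv, mul_right_comm, mul_inv_cancel, one_mul]
  obtain ⟨b, hb, -, hcb⟩ := hG.tri c hc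
  have h1 := key _ (hEc _ hcb)
  rw [show (⟨c * b, h.mem _ (hEc _ hcb)⟩ : Xp D c y) =
      ⟨c, h.mem c (hEc c (self_mem_class hc))⟩ * ⟨b, h.mem b (hEc b hb)⟩ from rfl, map_mul,
    key c (hEc c (self_mem_class hc)), key b (hEc b hb), mul_eq_left] at h1
  have hle : Xp D c y ≤ f.ker.map (Xp D c y).subtype := (closure_le _).2 (by
    rintro a (ha | ha)
    · exact ⟨⟨a, h.mem a (hEc a ha)⟩, (key a (hEc a ha)).trans h1, rfl⟩
    · exact ⟨⟨a, h.mem a (hEy a ha)⟩, (key a (hEy a ha)).trans h1, rfl⟩)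
  obtain ⟨g', hg', e⟩ := hle g.2
  rwa [← Subtype.ext (show (g' : G) = (g : G) from e)]

end CfsgLib.ThreeTrans.RootGroup
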