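import Cfsg.Agent.Lib.ThreeTrans.OddPair.Block
import Cfsg.Agent.Lib.ThreeTrans.RootSplit.Dichotomy
import Cfsg.Agent.Lib.ThreeTrans.RootSplit.ProdComp

/-!
Owner: helper27. An element of the group of a class moving one opposite member to a commuting one does so for
all; then it lies in the 2-core. Input: two members with product of odd order have a common neighbour in every
connected class (S5050).
-/

set_option autoImplicit false
set_option linter.unusedSectionVars false
set_option linter.style.haveILetI false

namespace CfsgLib.ThreeTrans.RootGroup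

open Subgroup Cfsg
open CfsgLib.ThreeTrans.OddPair

universe u

/-- The statement of S5050. -/
def CommonNbr : Prop :=
  ∀ (H : Type u) [Group H] [Finite H] (D : Set H), IsOddTranspositionSet D → IsRootInvolutionClass D →
    IsConnectedSet (CommAdj D) D → (D ∩ commutingProducts D).Nonempty →
      ∀ d ∈ D, ∀ x ∈ oddPartners D d, ∃ e ∈ D, e * d = d * e ∧ e * x = x * e

variable {G : Type u} [Group G] [Finite G] {D : Set G}

local notation "E[" v "]" => sameCommutingClass D v

/-- A set of members forming a class of the group they generate. -/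
structure IsSubClass (D C : Set G) : Prop where
  sub : C ⊆ D
  conj_mem : ∀ c ∈ C, ∀ g ∈ closure C, g * c * g⁻¹ ∈ C
  one : ∀ a ∈ C, ∀ b ∈ C, ∃ g ∈ closure C, b = g * a * g⁻¹

variable (hG : Deg D)
include hG

theorem grp_commute {d p z : G} (hp : p ∈ closure E[d]) (hz : z ∈ D) (hzd : Commute z d) : Commute z p := by
  have hle : closure E[d] ≤ centralizer ({z} : Set G) := (closure_le _).2 fun e he =>
    mem_centralizer_singleton_iff.2 ((class_iff he hz).2 hzd).eq.symm
  exact (mem_centralizer_singleton_iff.1 (hle hp)).symm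

theorem grp_commute_grp {d p q : G} (hd : d ∈ D) (hp : p ∈ closure E[d]) (hq : q ∈ closure E[d]) :
    Commute p q := by
  have hle : closure E[d] ≤ centralizer ({p} : Set G) := (closure_le _).2 fun e he =>
    mem_centralizer_singleton_iff.2 (grp_commute hG hp he.1 (class_commute hd he (self_mem_class hd))).eq
  exact (mem_centralizer_singleton_iff.1 (hle hq)).symm

theorem grp_sq {d p : G} (hd : d ∈ D) (hp : p ∈ closure E[d]) : p * p = 1 := by
  induction hp using closure_induction with
  | mem u hu => exact sq_one hG.hD hu.1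
  | one => exact one_mul 1
  | mul u v hu hv h1 h2 =>
    rw [mul_assoc, ← mul_assoc v, (grp_commute_grp hG hd hv hu).eq, mul_assoc, h2, mul_one, h1]
  | inv u _ h1 => rw [← mul_inv_rev, h1, inv_one]

theorem moves_of_commute {d p y : G} (hp : p ∈ closure E[d]) (hy : y ∈ D) (hyd : Commute y d) : Moves p y := by
  rw [Moves, ← (grp_commute hG hp hy hyd).eq, mul_inv_cancel_right]

/-- A subclass as a class of odd transpositions of its group. -/
theorem subClass_data {C : Set G} (hC : IsSubClass D C) (hne : C.Nonempty) :
    IsOddTranspositionSet {a : closure C | (a : G) ∈ C} ∧ IsRootInvolutionClass {a : closure C | (a : G) ∈ C} := by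
  have ho : ∀ a b : closure C, orderOf (a * b) = orderOf ((a : G) * b) := fun a b =>
    (Subgroup.orderOf_coe (a * b)).symm
  have hR : IsRootInvolutionSet {a : closure C | (a : G) ∈ C} := by
    refine ⟨fun a ha => ?_, ?_, fun a ha g => hC.conj_mem a ha g g.2, fun a ha b hb => ?_⟩
    · rw [← Subgroup.orderOf_coe]; exact hG.hD.1.orderOf_eq _ (hC.sub ha)
    · exact closure_closure_coe_preimage
    · rcases hG.hD.1.pair _ (hC.sub ha) _ (hC.sub hb) with h | h | h
      · exact Or.inl (Subtype.ext h)
      · exact Or.inr (Or.inl (ho a b ▸ h))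
      · exact absurd h.1 (hG.hD.2 _ (hC.sub ha) _ (hC.sub hb))
  obtain ⟨c, hc⟩ := hne
  refine ⟨⟨hR, fun a ha b hb => ?_⟩, hR, ⟨⟨c, subset_closure hc⟩, hc⟩, fun a ha b hb => ?_⟩
  · rw [ho]; exact hG.hD.2 _ (hC.sub ha) _ (hC.sub hb)
  · obtain ⟨g, hg, hge⟩ := hC.one a ha b hb
    exact ⟨⟨g, hg⟩, Subtype.ext hge⟩

/-- **Trivial action does not depend on the opposite member.** -/
theorem moves_transfer (h50 : CommonNbr.{u}) (hmain : AschCrit.Main.{u}) {d p : G} (hd : d ∈ D)
    (hp : p ∈ closure (E[d])) :
    ∀ n : ℕ, ∀ C : Set G, IsSubClass D C → C.ncard ≤ n → E[d] ⊆ C →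
      ∀ x ∈ C, ∀ z ∈ C, ¬ Commute d x → ¬ Commute d z → Moves p x → Moves p z := by
  intro n
  induction n with
  | zero =>
    intro C _ hn hE x hx
    rw [Nat.le_zero, Set.ncard_eq_zero (Set.toFinite _)] at hn
    exact absurd hx (hn ▸ Set.notMem_empty x)
  | succ n ih =>
    intro C hC hn hE x hx z hz hdx hdz hm
    have hxD := hC.sub hx
    have hzD := hC.sub hz
    by_cases hxz : Commute x z
    · exact (hG.moves_iff hxD hzD hd hxz (fun e => hdx e.symm) (fun e => hdz e.symm) hp).1 hm
    obtain ⟨hCo, hCc⟩ := subClass_data hG hC ⟨x, hx⟩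
    set DC := {a : closure C | (a : G) ∈ C} with hDC
    obtain ⟨b, hbE, hbd, hcE⟩ := hG.tri d hd
    set dC : closure C := ⟨d, subset_closure (hE (self_mem_class hd))⟩
    set bC : closure C := ⟨b, subset_closure (hE hbE)⟩
    have hcomm : ∀ {a c : closure C}, Commute (a : G) (c : G) → Commute a c := fun h => Subtype.ext h.eq
    have hDD : (DC ∩ commutingProducts DC).Nonempty := by
      refine ⟨dC * bC, hE hcE, dC, hE (self_mem_class hd), bC, hE hbE, (hcomm (class_commute hd (self_mem_class hd) hbE)).eq, fun e => ?_, rfl⟩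
      have e' : d * b = 1 := congrArg Subtype.val e
      exact hbd (by rw [eq_inv_of_mul_eq_one_right e', OddPair.inv_eq hG.hD hd])
    by_cases hconn : IsConnectedSet (CommAdj DC) DC
    · obtain ⟨y, hy, hyx, hyz⟩ := h50 (closure C) DC hCo hCc hconn hDD ⟨x, subset_closure hx⟩ hx
        ⟨z, subset_closure hz⟩ ⟨hz, fun e => hxz (by rw [show z = x from congrArg Subtype.val e]), by
          rw [← Subgroup.orderOf_coe]; exact odd_of hG.hD hxD hzD hxz⟩
      have hyD := hC.sub hy
      have hyx' : Commute x (y : G) := (congrArg Subtype.val hyx).symm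
      have hyz' : Commute (y : G) z := congrArg Subtype.val hyz
      by_cases hdy : Commute d (y : G)
      · -- descend to the class of `d` in the group of the members commuting with `y`
        set S := E[d] ∪ {x, z} with hS
        set C' := {a : G | ∃ g ∈ closure S, a = g * d * g⁻¹} with hC'
        have hSC : S ⊆ C := Set.union_subset hE (Set.insert_subset hx (Set.singleton_subset_iff.2 hz))
        have hC'C : C' ⊆ C := by
          rintro _ ⟨g, hg, rfl⟩
          exact hC.conj_mem d (hE (self_mem_class hd)) g (closure_mono hSC hg)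
        have hdS : d ∈ closure S := subset_closure (Or.inl (self_mem_class hd))
        have hodd : ∀ w ∈ D, w ∈ S → ¬ Commute d w → w ∈ C' := fun w hw hwS hdw => by
          obtain ⟨g, hg, hge⟩ := RootSplit.exists_conj_odd hG.hD.1 hd (b := w)
            ⟨hw, fun e => hdw (e ▸ Commute.refl d), odd_of hG.hD hd hw hdw⟩ (closure S) hdS (subset_closure hwS)
          exact ⟨g, hg, hge.symm⟩
        have hSC' : S ⊆ C' := by
          rintro w (hw | rfl | rfl)
          · have hex : ¬ Commute x w := fun hc => hdx ((class_iff hw hxD).1 hc).symm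
            obtain ⟨g, hg, hge⟩ := RootSplit.exists_conj_odd hG.hD.1 hxD (b := w)
              ⟨hw.1, fun e => hex (e ▸ Commute.refl x), odd_of hG.hD hxD hw.1 hex⟩ (closure S)
              (subset_closure (Or.inr (Or.inl rfl))) (subset_closure (Or.inl hw))
            obtain ⟨g₁, hg₁, hge₁⟩ := hodd x hxD (Or.inr (Or.inl rfl)) hdx
            exact ⟨g * g₁, mul_mem hg hg₁, by rw [← hge, hge₁]; group⟩
          · exact hodd w hxD (Or.inr (Or.inl rfl)) hdx
          · exact hodd w hzD (Or.inr (Or.inr rfl)) hdz
        have hgrp : closure C' = closure S := le_antisymm ((closure_le _).2 (by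
          rintro _ ⟨g, hg, rfl⟩; exact mul_mem (mul_mem hg hdS) (inv_mem hg))) (closure_mono hSC')
        have hsub : IsSubClass D C' := by
          refine ⟨fun a ha => hC.sub (hC'C ha), ?_, ?_⟩
          · rintro _ ⟨g, hg, rfl⟩ g' hg'
            exact ⟨g' * g, mul_mem (hgrp ▸ hg') hg, by group⟩
          · rintro _ ⟨g, hg, rfl⟩ _ ⟨g', hg', rfl⟩
            exact ⟨g' * g⁻¹, hgrp.symm ▸ mul_mem hg' (inv_mem hg), by group⟩
        have hcy : closure S ≤ centralizer ({(y : G)} : Set G) := (closure_le _).2 (by
          rintro w (hw | rfl | rfl)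
          · exact mem_centralizer_singleton_iff.2 ((class_iff hw hyD).2 hdy.symm).eq.symm
          · exact mem_centralizer_singleton_iff.2 hyx'.eq
          · exact mem_centralizer_singleton_iff.2 hyz'.eq.symm)
        have hlt : C'.ncard < C.ncard := by
          refine Set.ncard_lt_ncard (hC'C.ssubset_of_ne fun e => ?_) (Set.toFinite _)
          obtain ⟨g, hg, hge⟩ : (y : G) ∈ C' := by rw [e]; exact hy
          have h1 : g⁻¹ * (y : G) * g = y := by
            rw [mul_assoc, ← mem_centralizer_singleton_iff.1 (hcy hg), ← mul_assoc, inv_mul_cancel, one_mul]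
          have h2 : d = y := by rw [← h1, hge]; group
          exact hdx (h2 ▸ hyx'.symm)
        exact ih C' hsub (by omega) (fun e he => hSC' (Or.inl he)) x (hSC' (Or.inr (Or.inl rfl))) z
          (hSC' (Or.inr (Or.inr rfl))) hdx hdz hm
      · exact (hG.moves_iff hyD hzD hd hyz' (fun e => hdy e.symm) (fun e => hdz e.symm) hp).1
          ((hG.moves_iff hxD hyD hd hyx' (fun e => hdx e.symm) (fun e => hdy e.symm) hp).1 hm)
    · -- members split over the components
      have hne : DC.Nonempty := ⟨⟨x, subset_closure hx⟩, hx⟩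
      have hs := RootSplit.split_components hCo.1 hne hconn hDD
      set pt := RootSplit.compPt hCo.1 hne
      have hcon := hs.concl hmain
      have hpC : p ∈ closure C := closure_mono hE hp
      set pC : closure C := ⟨p, hpC⟩
      have hmem : pC ∈ closure (RootSplit.mems DC pt (pt dC)) := by
        have hle : closure (E[d]) ≤
            (closure (RootSplit.mems DC pt (pt dC))).map (closure C).subtype := (closure_le _).2 fun e he =>
          ⟨⟨e, subset_closure (hE he)⟩, subset_closure ⟨hE he, hs.pt_eq_of_commute (hE he)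
            (show dC ∈ DC from hE (self_mem_class hd)) (hcomm (class_commute hd he (self_mem_class hd)))⟩, rfl⟩
        obtain ⟨a, ha, hae⟩ := hle hp
        rwa [show pC = a from Subtype.ext hae.symm]
      have hfix : ∀ (w : closure C) (hw : w ∈ DC), pC • pt w = pt (pC * w * pC⁻¹) := fun w hw =>
        (hs.equiv w hw pC).symm
      set xC : closure C := ⟨x, subset_closure hx⟩
      set zC : closure C := ⟨z, subset_closure hz⟩
      have hconjC : ∀ (w : closure C), w ∈ DC → pC * w * pC⁻¹ ∈ DC := fun w hw => hs.root.conj_mem w hw pC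
      have hx1 : pC • pt xC = pt xC := by
        rw [hfix xC hx]
        exact hs.pt_eq_of_commute (hconjC xC hx) hx (hcomm hm)
      have htriv : pC • pt zC = pt zC := by
        rcases hcon.inner (pt dC) pC hmem with h | ⟨m, hm', h⟩
        · exact h _
        · have h1 : pt m = pt xC := hs.fix_eq hm'.1 (by rw [← h]; exact hx1)
          refine absurd (hcon.clique dC (hE (self_mem_class hd)) xC hx (hm'.2.symm.trans h1)) fun hc => hdx ?_
          exact congrArg Subtype.val hc.eq
      have hz1 := hfix zC hz
      rw [htriv] at hz1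
      exact congrArg Subtype.val (hcon.clique _ (hconjC zC hz) zC hz hz1.symm).eq

/-- An element acting trivially on one opposite member does so on all members. -/
theorem moves_all (h50 : CommonNbr.{u}) (hmain : AschCrit.Main.{u}) {d p x : G} (hd : d ∈ D)
    (hp : p ∈ closure (E[d])) (hx : x ∈ D) (hdx : ¬ Commute d x) (hm : Moves p x)
    {z : G} (hz : z ∈ D) : Moves p z := by
  by_cases hdz : Commute d z
  · exact moves_of_commute hG hp hz hdz.symm
  · refine moves_transfer hG h50 hmain hd hp D.ncard D ?_ le_rfl (fun e he => he.1) x hx z hz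
      hdx hdz hm
    refine ⟨le_rfl, fun c hc g _ => hG.hD.1.conj_mem c hc g, fun a ha b hb => ?_⟩
    obtain ⟨g, hg⟩ := hG.one a ha b hb
    exact ⟨g, by rw [hG.hD.1.generates]; trivial, hg⟩

/-- An element acting trivially on all members lies in the 2-core. -/
theorem mem_pCore_of_moves {d p : G} (hd : d ∈ D) (hp : p ∈ closure (E[d]))
    (hall : ∀ z ∈ D, Moves p z) : p ∈ pCore 2 G := by
  by_contra hO
  have hp2 := grp_sq hG hd hp
  obtain ⟨g, hne, hodd⟩ := RootInv.exists_odd_conj hp2 hO
  set q := g * p * g⁻¹ with hq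
  have hq' : q ∈ closure (E[g * d * g⁻¹]) := by
    have hle : closure (E[d]) ≤
        (closure (E[g * d * g⁻¹])).comap (MulAut.conj g).toMonoidHom :=
      (closure_le _).2 fun e he => subset_closure (OddPair.class_conj hG.hD g he)
    exact hle hp
  have hd' := hG.hD.1.conj_mem d hd g
  have hpp : ∀ t : G, p * (p * t) = t := fun t => by rw [← mul_assoc, hp2, one_mul]
  have hgen : ∀ a ∈ E[g * d * g⁻¹], ∀ b ∈ E[g * d * g⁻¹],
      Commute (p * a * p) b := by
    intro a ha b hb
    have h1 : Commute (p * a * p) a := by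
      have h := hall a ha.1
      rwa [Moves, inv_eq_of_mul_eq_one_right hp2] at h
    exact (class_iff hb (conj_mem hG.hD ha.1 hp2)).2 ((class_iff ha (conj_mem hG.hD ha.1 hp2)).1 h1)
  have hc : ∀ b ∈ E[g * d * g⁻¹], Commute (p * q * p) b := by
    intro b hb
    have hle : closure (E[g * d * g⁻¹]) ≤
        (centralizer ({b} : Set G)).comap (MulAut.conj p).toMonoidHom := (closure_le _).2 fun a ha =>
      mem_centralizer_singleton_iff.2 (by
        show p * a * p⁻¹ * b = b * (p * a * p⁻¹)
        rw [inv_eq_of_mul_eq_one_right hp2]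
        exact (hgen a ha b hb).eq)
    have h2 := mem_centralizer_singleton_iff.1 (hle hq')
    change p * q * p⁻¹ * b = b * (p * q * p⁻¹) at h2
    rwa [inv_eq_of_mul_eq_one_right hp2] at h2
  have hpq : Commute (p * q * p) q := by
    have hle : closure (E[g * d * g⁻¹]) ≤ centralizer ({p * q * p} : Set G) :=
      (closure_le _).2 fun b hb => mem_centralizer_singleton_iff.2 (hc b hb).eq.symm
    exact (mem_centralizer_singleton_iff.1 (hle hq')).symm
  have hq2 : q * q = 1 := grp_sq hG hd' hq'
  refine hne (RootInv.eq_one_of_odd_of_pow hodd (k := 2) ?_)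
  calc (p * q) ^ 2 ^ 2 = (p * q * p) * q * ((p * q * p) * q) := by
        simp only [show (2 : ℕ) ^ 2 = 4 by norm_num, pow_succ, pow_zero, one_mul, mul_assoc]
    _ = (p * q * p) * (p * q * p) * (q * q) := by rw [← sq, hpq.mul_pow, sq, sq]
    _ = 1 := by
      rw [hq2, mul_one]
      simp only [mul_assoc, hpp]
      rw [← mul_assoc q q, hq2, one_mul, hp2]

end CfsgLib.ThreeTrans.RootGroup
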