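import Cfsg.Agent.Lib.ThreeTrans.RootGroup.Group
import Cfsg.Agent.Lib.LocalEven.PushUp.PSLFacts

/-!
Owner: helper27. The group of a class and an opposite member is `L₂(q)` with `q` the order of the group of the
class, provided no pair is of Suzuki type and two members have common neighbours (S5050).
-/

set_option autoImplicit false
set_option linter.unusedSectionVars false
set_option linter.style.haveILetI false

namespace CfsgLib.ThreeTrans.RootGroup

open Subgroup Cfsg
open CfsgLib.ThreeTrans.OddPair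

universe u

/-- Non-commuting involutions are conjugate when commuting is transitive on involutions. -/
theorem conj_of_transInv {Q : Type u} [Group Q] [Finite Q] (hT : TransInv Q) {a s : Q} (ha : a * a = 1)
    (hs : s * s = 1) (hn : ¬ Commute a s) : ∃ g : Q, s = g * a * g⁻¹ := by
  set t := a * s with ht
  have hsi : s⁻¹ = s := inv_eq_of_mul_eq_one_right hs
  have hai : a⁻¹ = a := inv_eq_of_mul_eq_one_right ha
  have hflip : ∀ n : ℕ, a * t ^ n * a⁻¹ = (t ^ n)⁻¹ := fun n => by
    rw [← conj_pow, ← inv_pow, ht, mul_inv_rev, hsi, hai, ← mul_assoc, ha, one_mul]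
  rcases Nat.even_or_odd (orderOf t) with ⟨k, hk⟩ | ⟨k, hk⟩
  · have hpos := orderOf_pos t
    set z := t ^ k with hz
    have hz2 : z * z = 1 := by rw [hz, ← pow_add, ← hk, pow_orderOf_eq_one]
    have hz1 : z ≠ 1 := pow_ne_one_of_lt_orderOf (by omega) (by omega)
    have haz : Commute a z := by
      have := hflip k
      rw [inv_eq_of_mul_eq_one_right hz2] at this
      exact mul_inv_eq_iff_eq_mul.1 this
    have hsz : Commute s z := by
      rw [show s = a * t by rw [ht, ← mul_assoc, ha, one_mul]]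
      exact haz.mul_left ((Commute.refl t).pow_right k)
    exact absurd (hT a z s ha hz2 hz1 hs haz hsz.symm) hn
  · refine ⟨t ^ k, ?_⟩
    have e1 : a * (t ^ k)⁻¹ = t ^ k * a := by
      have h1 : a * t ^ k * a⁻¹ = (t ^ k)⁻¹ := hflip k
      rw [← h1, hai, ← mul_assoc, ← mul_assoc, ha, one_mul]
    have e2 : t ^ (2 * k) = t⁻¹ := eq_inv_of_mul_eq_one_left (by rw [← pow_succ, ← hk, pow_orderOf_eq_one])
    rw [mul_assoc, e1, ← mul_assoc, ← pow_add, ← two_mul, e2, ht, mul_inv_rev, hsi, hai, mul_assoc, ha, mul_one]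

/-- A dihedral group is not perfect. -/
theorem exists_hom_dihedral (n : ℕ) : ∃ (f : DihedralGroup n →* Multiplicative (ZMod 2)) (g : DihedralGroup n),
    f g ≠ 1 := by
  refine ⟨{ toFun := fun g => match g with
              | .r _ => 1
              | .sr _ => Multiplicative.ofAdd 1
            map_one' := rfl
            map_mul' := ?_ }, .sr 0, ?_⟩
  · rintro (i | i) (j | j) <;> first | rfl | exact (show (1 : Multiplicative (ZMod 2)) =
      Multiplicative.ofAdd 1 * Multiplicative.ofAdd 1 by decide)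
  · show (Multiplicative.ofAdd 1 : Multiplicative (ZMod 2)) ≠ 1
    decide

variable {G : Type u} [Group G] [Finite G] {D : Set G}

local notation "E[" v "]" => sameCommutingClass D v

variable (hG : Deg D)
include hG

/-- The involutions commuting with a member in the quotient come from its class. -/
theorem exists_lift {d y : G} (hd : d ∈ D) (hy : y ∈ D) (hdy : ¬ Commute d y) {hdX : d ∈ Xp D d y}
    {s : Xp D d y ⧸ pCore 2 (Xp D d y)} (hs : s * s = 1) (hs1 : s ≠ 1)
    (hsd : Commute s (QuotientGroup.mk' (pCore 2 (Xp D d y)) ⟨d, hdX⟩)) :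
    ∃ p : Xp D d y, (p : G) ∈ E[d] ∧ QuotientGroup.mk' (pCore 2 (Xp D d y)) p = s := by
  obtain ⟨h, -⟩ := hG.rk_pair hd hy hdy
  obtain ⟨hEd, hEy⟩ := hG.pair_mem hd hy hdy
  set π := QuotientGroup.mk' (pCore 2 (Xp D d y))
  have hdC := hEd d (self_mem_class hd)
  have hyC := hEy y (self_mem_class hy)
  have hn : ¬ Commute (π ⟨y, h.mem y hyC⟩) s := fun hc =>
    hdy ((h.commute_iff hG.hD hyC hdC).1
      (h.trans _ _ _ (h.img_sq hG.hD hyC) hs hs1 (h.img_sq hG.hD hdC) hc hsd)).symm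
  obtain ⟨q, hq⟩ := conj_of_transInv h.trans (h.img_sq hG.hD hyC) hs hn
  obtain ⟨g, rfl⟩ := h.surj q
  have hbC := h.conj y hyC g g.2
  have hb : π ⟨(g : G) * y * (g : G)⁻¹, h.mem _ hbC⟩ = s := by
    rw [hq, show (⟨(g : G) * y * (g : G)⁻¹, h.mem _ hbC⟩ : Xp D d y) = g * ⟨y, h.mem y hyC⟩ * g⁻¹ from rfl,
      map_mul, map_mul, map_inv]
  refine ⟨⟨_, h.mem _ hbC⟩, hG.mem_class_of_commute hd hy hdy (h.memD _ hbC)
    (by rw [← hG.Xp_eq hd hy hdy]; exact h.mem _ hbC) ((h.commute_iff hG.hD hbC hdC).1 ?_), hb⟩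
  rw [hb]; exact hsd

/-- **The pair group.** -/
theorem pair_group (h50 : CommonNbr.{u}) (hO : pCore 2 G = ⊥) (hZ : center G = ⊥)
    (hthree : ∀ c ∈ D, ∀ y ∈ D, ¬ Commute c y → Three D c y) {d x : G} (hd : d ∈ D) (hx : x ∈ oddPartners D d) :
    ∃ (F : Type) (_ : Field F) (_ : Fintype F), Fintype.card F = Nat.card ↥(sameCommutingSubgroup D d) ∧
      Nonempty (↥(closure (E[d] ∪ {x})) ≃* Matrix.ProjectiveSpecialLinearGroup (Fin 2) F) := by
  haveI : Fact (Nat.Prime 2) := ⟨Nat.prime_two⟩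
  have hxD := hx.1
  have hdx : ¬ Commute d x := fun hc => by
    have h2 : (d * x) ^ 2 = 1 := by rw [hc.mul_pow, sq, sq, sq_one hG.hD hd, sq_one hG.hD hx.1, mul_one]
    exact hx.2.1 (by
      rw [eq_inv_of_mul_eq_one_right (RootInv.eq_one_of_odd_of_pow hx.2.2 (k := 1) h2), OddPair.inv_eq hG.hD hd])
  have hlist := OddPair.listed hG.hD hd hx CfsgLib.AschCrit.mainProved
  rw [← hG.Xp_eq hd hxD hdx] at hlist ⊢
  obtain ⟨h, -⟩ := hG.rk_pair hd hxD hdx
  obtain ⟨hEd, hEy⟩ := hG.pair_mem hd hxD hdx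
  set X := Xp D d x with hX
  set π := QuotientGroup.mk' (pCore 2 X) with hπ
  have hdC := hEd d (self_mem_class hd)
  have hL : TypeL (X ⧸ pCore 2 X) := (hG.three_iff_typeL hd hxD hdx).1 (hthree d hd x hxD hdx)
  rcases hlist with ⟨F, iF, iFt, hchar, hq, ⟨i⟩⟩ | hS | ⟨n, ⟨i⟩⟩
  rotate_left
  · exact absurd (typeS_of_iso hS) hL.not_typeS
  · exfalso
    obtain ⟨f, g, hfg⟩ := exists_hom_dihedral n
    obtain ⟨g', hg'⟩ := (i.surjective.comp (QuotientGroup.mk'_surjective _)) g
    exact hfg (by rw [← hg']; exact hom_eq_one hG hd hxD hdx (f.comp (i.toMonoidHom.comp π)) g')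
  -- the image of the group of the class
  have hle : closure E[d] ≤ X := (closure_le X).2 fun b hb => h.mem b (hEd b hb)
  set B := h.trans.block (π ⟨d, h.mem d hdC⟩) (h.img_sq hG.hD hdC) (h.ne d hdC) with hB
  let φ : closure E[d] →* X ⧸ pCore 2 X := π.comp (Subgroup.inclusion hle)
  have hφ : Function.Injective φ := (injective_iff_map_eq_one φ).2 fun p hp => Subtype.ext
    (eq_one_of_map hG h50 hO hZ hd hxD hdx (p := Subgroup.inclusion hle p) p.2 hp)
  have hrange : φ.range = B := by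
    refine le_antisymm ?_ fun s hs => ?_
    · rintro _ ⟨p, rfl⟩
      exact h.block_img hG.hD hdC (fun e he => ⟨hEd e he, class_commute hd he (self_mem_class hd)⟩) p.2 (hle p.2)
    · by_cases hs1 : s = 1
      · rw [hs1]; exact one_mem _
      · obtain ⟨p, hp, hps⟩ := exists_lift hG hd hxD hdx hs.1 hs1 hs.2
        exact ⟨⟨p, subset_closure hp⟩, hps⟩
  have hB2 : IsPGroup 2 B := fun s => ⟨1, Subtype.ext (by
    show (s : X ⧸ pCore 2 X) ^ (2 ^ 1) = 1
    rw [pow_one, sq]; exact s.2.1)⟩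
  obtain ⟨S, hBS⟩ := hB2.exists_le_sylow
  let S' := S.mapSurjective (f := i.toMonoidHom) i.surjective
  obtain ⟨helem, hexp⟩ := CfsgLib.PushUp.PSLFacts.psl_elem (p := 2) S'.2
  have himg : ∀ s ∈ S, i s ∈ (S' : Subgroup _) := fun s hs => ⟨s, hs, rfl⟩
  have hSB : (S : Subgroup (X ⧸ pCore 2 X)) ≤ B := fun s hs => by
    refine ⟨i.injective ?_, i.injective ?_⟩
    · rw [map_mul, map_one, ← sq]; exact hexp _ (himg s hs)
    · rw [map_mul, map_mul]
      exact helem _ (himg s hs) _ (himg _ (hBS (show π ⟨d, h.mem d hdC⟩ ∈ B from ⟨h.img_sq hG.hD hdC, Commute.refl _⟩)))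
  have hSB' : (S : Subgroup (X ⧸ pCore 2 X)) = B := le_antisymm hSB hBS
  have hcard : Fintype.card F = Nat.card ↥(sameCommutingSubgroup D d) := by
    rw [← CfsgLib.PushUp.PSLFacts.psl_card_sylow (p := 2) S',
      show sameCommutingSubgroup D d = closure E[d] from rfl,
      Nat.card_congr (MonoidHom.ofInjective hφ).toEquiv, hrange, ← hSB']
    exact Nat.card_congr ((S : Subgroup _).equivMapOfInjective i.toMonoidHom i.injective).toEquiv.symm
  -- the 2-core is trivial
  have hR : pCore 2 X = ⊥ := by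
    have hcent : ∀ r ∈ pCore 2 X, ∀ g : X, Commute r g := fun r hr g => Subtype.ext
      (core_central hG h50 hO hZ hd hxD hdx (r := r) (g := g) ⟨r, hr, rfl⟩ g.2).eq
    set P := B.comap π with hP
    have hdec : ∀ a ∈ P, ∃ p r : X, (p : G) ∈ closure E[d] ∧ r ∈ pCore 2 X ∧ a = p * r := by
      intro a ha
      obtain ⟨p, hp⟩ : π a ∈ φ.range := hrange ▸ ha
      refine ⟨Subgroup.inclusion hle p, (Subgroup.inclusion hle p)⁻¹ * a, p.2, ?_, (mul_inv_cancel_left _ _).symm⟩
      refine (QuotientGroup.eq_one_iff _).1 ?_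
      show π ((Subgroup.inclusion hle p)⁻¹ * a) = 1
      rw [map_mul, map_inv, show π (Subgroup.inclusion hle p) = π a from hp, inv_mul_cancel]
    have hPc : ∀ a b : P, a * b = b * a := by
      rintro ⟨a, ha⟩ ⟨b, hb⟩
      obtain ⟨p, r, hp, hr, rfl⟩ := hdec a ha
      obtain ⟨p', r', hp', hr', rfl⟩ := hdec b hb
      refine Subtype.ext (Commute.eq ?_)
      exact ((show Commute p p' from Subtype.ext (grp_commute_grp hG hd hp hp').eq).mul_right
        (hcent r' hr' p).symm).mul_left ((hcent r hr p').mul_right (hcent r hr r'))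
    have hindex : Odd P.index := by
      rw [hP, Subgroup.index_comap_of_surjective _ h.surj, ← hSB', Nat.odd_iff]
      exact Nat.two_dvd_ne_zero.1 S.not_dvd_index
    letI : CommGroup P := { P.toGroup with mul_comm := hPc }
    rw [eq_bot_iff]
    intro r hr
    have key : ∀ (k : ℕ) (g₀ : X), g₀⁻¹ * r ^ k * g₀ ∈ P → g₀⁻¹ * r ^ k * g₀ = r ^ k := fun k g₀ _ => by
      rw [mul_assoc, ((hcent r hr g₀).pow_left k).eq, ← mul_assoc, inv_mul_cancel, one_mul]
    have h1 := MonoidHom.transfer_eq_pow (MonoidHom.id P) r key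
    rw [hom_eq_one hG hd hxD hdx (MonoidHom.transfer (MonoidHom.id P)) r] at h1
    have h2 : r ^ P.index = 1 := congrArg Subtype.val h1.symm
    obtain ⟨k, hk⟩ := CfsgLib.Core.isPGroup_pCore 2 X ⟨r, hr⟩
    exact Subgroup.mem_bot.2 (RootInv.eq_one_of_odd_of_pow
      (hindex.of_dvd_nat (orderOf_dvd_of_pow_eq_one h2)) (congrArg Subtype.val hk))
  exact ⟨F, iF, iFt, hcard,
    ⟨((QuotientGroup.quotientMulEquivOfEq hR).trans QuotientGroup.quotientBot).symm.trans i⟩⟩

/-- **Root groups.** S5052, from S5050 and the absence of pairs of Suzuki type. -/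
theorem rootGroup (h50 : CommonNbr.{u}) (hO : pCore 2 G = ⊥) (hZ : center G = ⊥)
    (hthree : ∀ c ∈ D, ∀ y ∈ D, ¬ Commute c y → Three D c y) {d : G} (hd : d ∈ D) :
    (sameCommutingSubgroup D d : Set G) = E[d] ∪ {1} ∧
      ∀ x ∈ oddPartners D d, ∃ (F : Type) (_ : Field F) (_ : Fintype F),
        Fintype.card F = Nat.card ↥(sameCommutingSubgroup D d) ∧
        Nonempty (↥(closure (E[d] ∪ {x})) ≃* Matrix.ProjectiveSpecialLinearGroup (Fin 2) F) :=
  ⟨group_eq hG h50 hO hZ hd, fun _ hx => pair_group hG h50 hO hZ hthree hd hx⟩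

end CfsgLib.ThreeTrans.RootGroup
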